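import Cfsg.Agent.Lib.Offender69.Limit

/-!
Strict improvement of filtration sizes under `limitSub`, and exponentials of square-zero elements
of a sum of three mutually normalised square-zero subgroups.
-/

set_option autoImplicit false

namespace Cfsg.Agent.Lib.Offender69

open Polynomial

variable {R : Type*} [Ring R] {p : ℕ}

theorem eq_half (hp : (p : R) = 0) (hodd : Odd p) (x : R) :
    x = ((p + 1) / 2) • (x + x) := by
  obtain ⟨k, rfl⟩ := hodd
  have : (2 * k + 1 + 1) / 2 = k + 1 := by omega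
  rw [this, ← two_nsmul, ← mul_nsmul]
  have h0 : ((2 * k + 1) • x) = 0 := by rw [nsmul_eq_mul, hp, zero_mul]
  rw [show 2 * (k + 1) = (2 * k + 1) + 1 by ring, add_nsmul, h0, zero_add, one_nsmul]

theorem eq_zero_of_double (hp : (p : R) = 0) (hodd : Odd p) {x : R} (h : x + x = 0) : x = 0 := by
  rw [eq_half hp hodd x, h, nsmul_zero]

theorem mem_of_double (hp : (p : R) = 0) (hodd : Odd p) {S : AddSubgroup R} {x : R}
    (h : x + x ∈ S) : x ∈ S := by
  rw [eq_half hp hodd x]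
  exact nsmul_mem h _

theorem double_half (hp : (p : R) = 0) (hodd : Odd p) (x : R) :
    ((p + 1) / 2) • x + ((p + 1) / 2) • x = x := by
  rw [← nsmul_add, ← eq_half hp hodd x]

/-- If the limit of `S` meets no member of the filtration in more elements than `S` does, then `S`
is stable under `x ↦ βx - xβ`. -/
theorem nMap_mem_of_card_le [Finite R] (hp : (p : R) = 0) (hodd : Odd p) (β : R) (hβ : β * β = 0)
    (S : AddSubgroup R) (F : ℕ → AddSubgroup R) (hFm : ∀ k, F (k + 1) ≤ F k)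
    (hFl : ∀ k, ∀ x ∈ F k, β * x ∈ F (k + 1)) (hFr : ∀ k, ∀ x ∈ F k, x * β ∈ F (k + 1))
    (n : ℕ) (hFn : F n = ⊥) (hS : S ≤ F 0)
    (h : ∀ k, Nat.card ↥(limitSub β S ⊓ F k) ≤ Nat.card ↥(S ⊓ F k)) :
    ∀ x ∈ S, nMap β x ∈ S := by
  have hlimF : ∀ k, limitSub β (F k) ≤ F k := fun k => limitSub_le β le_rfl
    (fun x hx => hFm k (sub_mem (hFl k x hx) (hFr k x hx)))
    (fun x hx => neg_mem (hFm k (hFm (k + 1) (hFr (k + 1) _ (hFl k x hx)))))
  have hsub : ∀ k, limitSub β (S ⊓ F k) ≤ limitSub β S ⊓ F k := fun k =>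
    le_inf (limitSub_mono β inf_le_left) ((limitSub_mono β inf_le_right).trans (hlimF k))
  have heq : ∀ k, limitSub β (S ⊓ F k) = limitSub β S ⊓ F k := fun k =>
    SetLike.coe_injective <| Set.eq_of_subset_of_ncard_le (hsub k) (by
      rw [← Nat.card_coe_set_eq, ← Nat.card_coe_set_eq]
      exact (h k).trans (card_le_limitSub β hβ _)) (Set.toFinite _)
  suffices H : ∀ j k, n ≤ k + j → ∀ x ∈ S ⊓ F k, nMap β x ∈ S ⊓ F k by
    intro x hx
    exact (AddSubgroup.mem_inf.1 (H n 0 (by omega) x ⟨hx, hS hx⟩)).1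
  intro j
  induction j with
  | zero =>
    intro k hk x hx
    have hle : ∀ m, n ≤ m → F m ≤ ⊥ := by
      intro m hm
      induction m, hm using Nat.le_induction with
      | base => exact hFn.le
      | succ m _ ih => exact (hFm m).trans ih
    have hx0 : x = 0 := (AddSubgroup.mem_bot).1 (hle k (by omega) (AddSubgroup.mem_inf.1 hx).2)
    subst hx0
    simp [nMap]
  | succ j ih =>
    intro k hk x hx
    set W := S ⊓ F (k + 1) with hW
    have hN : ∀ w ∈ W, nMap β w ∈ W := ih (k + 1) (by omega)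
    have hQ : ∀ w ∈ W, qMap β w ∈ W := fun w hw => mem_of_double hp hodd (by
      have e : qMap β w + qMap β w = nMap β (nMap β w) := by
        simp only [nMap, qMap]
        noncomm_ring [hβ]
        simp [← mul_assoc, hβ]
      rw [e]
      exact hN _ (hN w hw))
    have hWeq : limitSub β S ⊓ F (k + 1) = W := by
      rw [← heq (k + 1)]
      exact SetLike.coe_injective <| Set.eq_of_subset_of_ncard_le (limitSub_le β le_rfl hN hQ)
        (by
          rw [← Nat.card_coe_set_eq, ← Nat.card_coe_set_eq]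
          exact card_le_limitSub β hβ _) (Set.toFinite _)
    have hxS := (AddSubgroup.mem_inf.1 hx).1
    have hxF := (AddSubgroup.mem_inf.1 hx).2
    have hqF : qMap β x ∈ F (k + 1) := neg_mem (hFm (k + 1) (hFr (k + 1) _ (hFl k x hxF)))
    have hnF : nMap β x ∈ F (k + 1) := sub_mem (hFl k x hxF) (hFr k x hxF)
    have hCC : ∀ a b : R, C a * C b = (C (a * b) : R[X]) := fun a b => (map_mul C a b).symm
    have hphi : ∀ a : R, phi β (C a) = C a + C (nMap β a) * X + C (qMap β a) * X * X := by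
      intro a
      rw [phi_eq, nMap, qMap]
      simp only [hCC, map_sub, map_neg]
    have hqW : qMap β x ∈ W := by
      rw [← hWeq]
      refine ⟨⟨C x, 2, fun i => ?_, ?_, ?_⟩, hqF⟩
      · rw [coeff_C]
        split
        · exact hxS
        · exact zero_mem S
      · refine natDegree_le_iff_coeff_eq_zero.2 fun N hN' => ?_
        obtain ⟨i, rfl⟩ : ∃ i, N = i + 1 + 1 + 1 := ⟨N - 3, by omega⟩
        rw [hphi]
        simp [coeff_C]
      · rw [hphi]
        simp [coeff_C]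
    have hnn : nMap β (qMap β x) = 0 := by
      simp only [nMap, qMap]
      noncomm_ring [hβ]
      simp [← mul_assoc, hβ]
    have hqq : qMap β (qMap β x) = 0 := by
      simp [qMap, ← mul_assoc, hβ]
    have hnW : nMap β x ∈ W := by
      rw [← hWeq]
      have e : phi β (C x - C (qMap β x) * X ^ 2) = C x + C (nMap β x) * X := by
        rw [sub_eq_add_neg, phi_add, phi_neg, phi_mul_X_pow, hphi, hphi, hnn, hqq, map_zero]
        noncomm_ring
      refine ⟨⟨C x - C (qMap β x) * X ^ 2, 1, fun i => ?_, ?_, ?_⟩, hnF⟩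
      · rw [coeff_sub]
        refine sub_mem ?_ (InS.mul_X_pow (fun l => ?_) 2 i)
        · rw [coeff_C]
          split
          · exact hxS
          · exact zero_mem S
        · rw [coeff_C]
          split
          · exact (AddSubgroup.mem_inf.1 hqW).1
          · exact zero_mem S
      · refine natDegree_le_iff_coeff_eq_zero.2 fun N hN' => ?_
        obtain ⟨i, rfl⟩ : ∃ i, N = i + 1 + 1 := ⟨N - 2, by omega⟩
        rw [e]
        simp [coeff_C]
      · rw [e]
        simp [coeff_C]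
    exact ⟨(AddSubgroup.mem_inf.1 hnW).1, hFm k (AddSubgroup.mem_inf.1 hnW).2⟩

/-- A square-zero element of a sum of three square-zero subgroups which have brackets in the
intersections lies, shifted by one, in the monoid generated by the shifted subgroups. -/
theorem one_add_mem_of_sum (hp : (p : R) = 0) (hodd : Odd p) (M : Submonoid R)
    (L : Fin 3 → AddSubgroup R) (hM : ∀ i, ∀ x ∈ L i, 1 + x ∈ M)
    (hsq : ∀ i, ∀ x ∈ L i, ∀ y ∈ L i, x * y = 0)
    (hbr : ∀ i j, ∀ x ∈ L i, ∀ y ∈ L j, x * y - y * x ∈ L i ⊓ L j)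
    {u₀ u₁ u : R} (h₀ : u₀ ∈ L 0) (h₁ : u₁ ∈ L 1) (h₂ : u ∈ L 2)
    (hx : (u₀ + u₁ + u) * (u₀ + u₁ + u) = 0) : 1 + (u₀ + u₁ + u) ∈ M := by
  set h := (p + 1) / 2 with hh
  have dh : ∀ y : R, h • y + h • y = y := fun y => double_half hp hodd y
  have d0 : ∀ y : R, y + y = 0 → y = 0 := fun y => eq_zero_of_double hp hodd
  -- the pair
  set w := u₀ + u₁ with hw
  set z01 := u₀ * u₁ - u₁ * u₀ with hz01
  obtain ⟨hz01a, hz01b⟩ := AddSubgroup.mem_inf.1 (hbr 0 1 u₀ h₀ u₁ h₁)
  set c01 := h • z01 with hc01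
  have hc01a : c01 ∈ L 0 := nsmul_mem hz01a h
  have hc01b : c01 ∈ L 1 := nsmul_mem hz01b h
  have hw2 : w * w = u₀ * u₁ + u₁ * u₀ := by
    rw [hw]; noncomm_ring [hsq 0 u₀ h₀ u₀ h₀, hsq 1 u₁ h₁ u₁ h₁]
  set W := u₀ * u₁ - c01 with hWdef
  have hWW : W + W = w * w := by
    rw [hw2, hWdef]
    calc u₀ * u₁ - c01 + (u₀ * u₁ - c01) = u₀ * u₁ + u₀ * u₁ - (c01 + c01) := by abel
      _ = _ := by rw [hc01, dh, hz01]; abel
  have m1 : 1 + w + W ∈ M := by
    have e : (1 + u₀) * (1 + u₁) * (1 + -c01) = 1 + w + W := by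
      rw [hWdef, hw]
      have a1 := hsq 0 u₀ h₀ c01 hc01a
      have a2 := hsq 1 u₁ h₁ c01 hc01b
      noncomm_ring [a1, a2]
    rw [← e]
    exact M.mul_mem (M.mul_mem (hM 0 _ h₀) (hM 1 _ h₁)) (hM 1 _ (neg_mem hc01b))
  set x := u₀ + u₁ + u with hxdef
  set z := w * u - u * w with hz
  set z0 := u₀ * u - u * u₀ with hz0
  set z1 := u₁ * u - u * u₁ with hz1
  obtain ⟨hz0a, hz0c⟩ := AddSubgroup.mem_inf.1 (hbr 0 2 u₀ h₀ u h₂)
  obtain ⟨hz1b, hz1c⟩ := AddSubgroup.mem_inf.1 (hbr 1 2 u₁ h₁ u h₂)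
  have hzsum : z = z0 + z1 := by rw [hz, hw, hz0, hz1]; noncomm_ring
  have hzc : z ∈ L 2 := hzsum ▸ add_mem hz0c hz1c
  have huu : u * u = 0 := hsq 2 u h₂ u h₂
  have huz : u * z = 0 := hsq 2 u h₂ z hzc
  have hzu : z * u = 0 := hsq 2 z hzc u h₂
  have huwu : u * w * u = 0 := by
    rw [hz, mul_sub, ← mul_assoc, ← mul_assoc, huu, zero_mul, sub_zero] at huz
    exact huz
  have hx' : (w + u) * (w + u) = 0 := hx
  have hww : w * w = -(w * u) - u * w := by
    rw [← sub_eq_zero]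
    calc w * w - (-(w * u) - u * w) = (w + u) * (w + u) - u * u := by noncomm_ring
      _ = 0 := by rw [hx', huu, sub_zero]
  have hWu : W * u = 0 := by
    apply d0
    rw [← add_mul, hWW, hww, sub_mul, neg_mul, mul_assoc w u u, huu, mul_zero, huwu]
    simp
  set c := h • z with hc
  have hcc : c ∈ L 2 := nsmul_mem hzc h
  have hcz : W + w * u = c := by
    rw [← sub_eq_zero]
    apply d0
    calc W + w * u - c + (W + w * u - c) = (W + W) + (w * u + w * u) - (c + c) := by abel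
      _ = 0 := by rw [hWW, hc, dh, hz, hww]; abel
  have m2 : 1 + x + c ∈ M := by
    have e : (1 + w + W) * (1 + u) = 1 + x + c := by
      rw [← hcz]
      change _ = 1 + (w + u) + _
      noncomm_ring [hWu]
    rw [← e]
    exact M.mul_mem m1 (hM 2 _ h₂)
  have hcc0 : c * c = 0 := hsq 2 c hcc c hcc
  set τ := -(x * c) with hτ
  have m3 : 1 + x + τ ∈ M := by
    have e : (1 + x + c) * (1 + -c) = 1 + x + τ := by
      rw [hτ]; noncomm_ring [hcc0]
    rw [← e]
    exact M.mul_mem m2 (hM 2 _ (neg_mem hcc))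
  -- `x * c` lies in all three subgroups
  have hxz : x * z = w * z := by
    change (w + u) * z = _
    rw [add_mul, huz, add_zero]
  have hzx : z * x = z * w := by
    change z * (w + u) = _
    rw [mul_add, hzu, add_zero]
  have hanti : z * x = -(x * z) := by
    have hwxu : w = x - u := by rw [hxdef, hw]; abel
    rw [hz, hwxu, ← add_eq_zero_iff_eq_neg]
    calc ((x - u) * u - u * (x - u)) * x + x * ((x - u) * u - u * (x - u))
        = x * x * u - u * (x * x) := by noncomm_ring [huu]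
      _ = 0 := by rw [hx]; simp
  have hbrT : w * z - z * w ∈ L 0 ⊓ L 1 ⊓ L 2 := by
    have e : w * z - z * w = (u₀ * z1 - z1 * u₀) + (u₁ * z0 - z0 * u₁) := by
      rw [hzsum, hw]
      noncomm_ring [hsq 0 u₀ h₀ z0 hz0a, hsq 0 z0 hz0a u₀ h₀, hsq 1 u₁ h₁ z1 hz1b,
        hsq 1 z1 hz1b u₁ h₁]
    rw [e]
    refine add_mem ⟨hbr 0 1 u₀ h₀ z1 hz1b, ?_⟩ ⟨?_, ?_⟩
    · exact (AddSubgroup.mem_inf.1 (hbr 0 2 u₀ h₀ z1 hz1c)).2
    · exact ⟨(AddSubgroup.mem_inf.1 (hbr 1 0 u₁ h₁ z0 hz0a)).2,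
        (AddSubgroup.mem_inf.1 (hbr 1 0 u₁ h₁ z0 hz0a)).1⟩
    · exact (AddSubgroup.mem_inf.1 (hbr 1 2 u₁ h₁ z0 hz0c)).2
  have hT : τ ∈ L 0 ⊓ L 1 ⊓ L 2 := by
    apply neg_mem
    apply mem_of_double hp hodd
    apply mem_of_double hp hodd
    have e : x * c + x * c + (x * c + x * c) = w * z - z * w := by
      rw [← mul_add, hc, dh, ← hxz, ← hzx, hanti, sub_neg_eq_add]
    rw [e]
    exact hbrT
  obtain ⟨⟨hT0, hT1⟩, hT2⟩ := hT
  have hτx : x * τ = 0 := by
    rw [hxdef, add_mul, add_mul, hsq 0 u₀ h₀ τ hT0, hsq 1 u₁ h₁ τ hT1, hsq 2 u h₂ τ hT2]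
    simp
  have e : (1 + x + τ) * (1 + -τ) = 1 + x := by
    noncomm_ring [hτx, hsq 2 τ hT2 τ hT2]
  rw [← e]
  exact M.mul_mem m3 (hM 2 _ (neg_mem hT2))

/-- Brackets of the subgroups attached to mutually normalised quadratic subgroups. -/
theorem bracket_mem {L : AddSubgroup R} (hp : (p : R) = 0) (hodd : Odd p)
    (hsq : ∀ x ∈ L, ∀ y ∈ L, x * y = 0) {l m : R} (hl : l ∈ L) (hm : m * m = 0)
    (h1 : (1 + m) * l * (1 - m) ∈ L) (h2 : (1 - m) * l * (1 + m) ∈ L) :
    l * m * l = 0 ∧ (1 + m) * l * (1 - m) = l + (m * l - l * m) - m * l * m := by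
  have e : (1 + m) * l * (1 - m) = l + (m * l - l * m) - m * l * m := by noncomm_ring
  refine ⟨eq_zero_of_double hp hodd ?_, e⟩
  have a := hsq l hl _ h1
  have b := hsq l hl _ h2
  calc l * m * l + l * m * l = l * ((1 + m) * l * (1 - m)) - l * ((1 - m) * l * (1 + m)) := by
        noncomm_ring [hsq l hl l hl]
        simp [← mul_assoc, hsq l hl l hl]
    _ = 0 := by rw [a, b, sub_zero]

end Cfsg.Agent.Lib.Offender69
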