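import Mathlib

/-!
Limits of an additive subgroup under conjugation by `1 + t β`, `β * β = 0`, as `t` grows:
leading coefficients of the conjugated polynomials with coefficients in the subgroup.
-/

set_option autoImplicit false

namespace Cfsg.Agent.Lib.Offender69

open Polynomial

variable {R : Type*} [Ring R]

/-- first order term -/
def nMap (β x : R) : R := β * x - x * β

/-- second order term -/
def qMap (β x : R) : R := -(β * x * β)

/-- conjugation by `1 + β X` of a polynomial -/
noncomputable def phi (β : R) (P : R[X]) : R[X] := (1 + C β * X) * P * (1 - C β * X)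

theorem sub_mul_add (β : R) (h : β * β = 0) :
    (1 - C β * X) * (1 + C β * X) = (1 : R[X]) := by
  have h0 : (C β * X) * (C β * X) = (0 : R[X]) := by
    rw [mul_assoc (C β) X (C β * X), X_mul, mul_assoc (C β) X X, ← mul_assoc (C β) (C β) (X * X),
      ← map_mul, h, map_zero, zero_mul]
  noncomm_ring [h0]

theorem add_mul_sub (β : R) (h : β * β = 0) :
    (1 + C β * X) * (1 - C β * X) = (1 : R[X]) := by
  have h0 : (C β * X) * (C β * X) = (0 : R[X]) := by
    rw [mul_assoc (C β) X (C β * X), X_mul, mul_assoc (C β) X X, ← mul_assoc (C β) (C β) (X * X),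
      ← map_mul, h, map_zero, zero_mul]
  noncomm_ring [h0]

theorem phi_mul (β : R) (h : β * β = 0) (P Q : R[X]) : phi β (P * Q) = phi β P * phi β Q := by
  have := sub_mul_add β h
  calc phi β (P * Q) = (1 + C β * X) * P * ((1 - C β * X) * (1 + C β * X)) * Q * (1 - C β * X) := by
        rw [this]; simp [phi, mul_assoc]
    _ = phi β P * phi β Q := by simp [phi, mul_assoc]

theorem phi_injective (β : R) (h : β * β = 0) : Function.Injective (phi β) := by
  intro P Q hPQ
  have := congrArg (fun Z => (1 - C β * X) * Z * (1 + C β * X)) hPQ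
  simp only [phi, ← mul_assoc, sub_mul_add β h, one_mul] at this
  simpa [mul_assoc, sub_mul_add β h] using this

theorem phi_add (β : R) (P Q : R[X]) : phi β (P + Q) = phi β P + phi β Q := by
  simp only [phi, mul_add, add_mul]

theorem phi_neg (β : R) (P : R[X]) : phi β (-P) = -phi β P := by simp [phi]

theorem phi_zero (β : R) : phi β 0 = 0 := by simp [phi]

theorem phi_mul_X_pow (β : R) (P : R[X]) (e : ℕ) : phi β (P * X ^ e) = phi β P * X ^ e := by
  simp only [phi, mul_assoc]
  rw [X_pow_mul]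

theorem phi_eq (β : R) (P : R[X]) :
    phi β P = P + (C β * P - P * C β) * X + -(C β * P * C β) * X * X := by
  have h1 : X * P = P * X := X_mul
  have h2 : ∀ Q : R[X], X * Q = Q * X := fun Q => X_mul
  calc phi β P = P + C β * (X * P) - P * (C β * X) - C β * (X * P) * (C β * X) := by
        simp only [phi]; noncomm_ring
    _ = P + C β * (P * X) - P * (C β * X) - C β * P * (X * C β) * X := by
        rw [h1]; noncomm_ring
    _ = _ := by rw [h2 (C β)]; noncomm_ring

theorem coeff_phi_mem (β : R) (T : AddSubgroup R) (P : R[X]) (h : ∀ i, P.coeff i ∈ T)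
    (hn : ∀ i, nMap β (P.coeff i) ∈ T) (hq : ∀ i, qMap β (P.coeff i) ∈ T) (m : ℕ) :
    (phi β P).coeff m ∈ T := by
  rw [phi_eq, coeff_add, coeff_add]
  refine add_mem (add_mem (h m) ?_) ?_
  · rcases m with _ | m
    · rw [coeff_mul_X_zero]; exact zero_mem T
    · rw [coeff_mul_X, coeff_sub, coeff_C_mul, coeff_mul_C]; exact hn m
  · rcases m with _ | _ | m
    · rw [coeff_mul_X_zero]; exact zero_mem T
    · rw [coeff_mul_X, coeff_mul_X_zero]; exact zero_mem T
    · rw [coeff_mul_X, coeff_mul_X, coeff_neg, coeff_mul_C, coeff_C_mul]; exact hq m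

/-- coefficients in `S` -/
def InS (S : AddSubgroup R) (P : R[X]) : Prop := ∀ i, P.coeff i ∈ S

theorem InS.mul_X_pow {S : AddSubgroup R} {P : R[X]} (h : InS S P) (e : ℕ) :
    InS S (P * X ^ e) := fun i => by
  rw [coeff_mul_X_pow']
  split
  · exact h _
  · exact zero_mem S

/-- The limit subgroup: leading coefficients. -/
def limitSub (β : R) (S : AddSubgroup R) : AddSubgroup R where
  carrier := {x | ∃ (P : R[X]) (d : ℕ), InS S P ∧ (phi β P).natDegree ≤ d ∧ (phi β P).coeff d = x}
  zero_mem' := ⟨0, 0, fun i => by simp, by simp [phi_zero], by simp [phi_zero]⟩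
  add_mem' := by
    rintro x y ⟨P, d, hP, hd, rfl⟩ ⟨Q, e, hQ, he, rfl⟩
    refine ⟨P * X ^ e + Q * X ^ d, d + e, fun i => ?_, ?_, ?_⟩
    · rw [coeff_add]; exact add_mem (hP.mul_X_pow e i) (hQ.mul_X_pow d i)
    · rw [phi_add, phi_mul_X_pow, phi_mul_X_pow]
      refine natDegree_add_le_of_degree_le ?_ ?_
      · exact natDegree_mul_le_of_le hd (natDegree_X_pow_le e)
      · exact (natDegree_mul_le_of_le he (natDegree_X_pow_le d)).trans (by omega)
    · rw [phi_add, phi_mul_X_pow, phi_mul_X_pow, coeff_add, coeff_mul_X_pow, Nat.add_comm d e,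
        coeff_mul_X_pow]
  neg_mem' := by
    rintro x ⟨P, d, hP, hd, rfl⟩
    exact ⟨-P, d, fun i => by simpa using hP i, by simpa [phi_neg] using hd, by simp [phi_neg]⟩

theorem limitSub_le (β : R) {S T : AddSubgroup R} (h : S ≤ T) (hn : ∀ x ∈ S, nMap β x ∈ T)
    (hq : ∀ x ∈ S, qMap β x ∈ T) : limitSub β S ≤ T := by
  rintro x ⟨P, d, hP, -, rfl⟩
  exact coeff_phi_mem β T P (fun i => h (hP i)) (fun i => hn _ (hP i)) (fun i => hq _ (hP i)) d

theorem limitSub_mono (β : R) {S T : AddSubgroup R} (h : S ≤ T) :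
    limitSub β S ≤ limitSub β T := by
  rintro x ⟨P, d, hP, hd, rfl⟩
  exact ⟨P, d, fun i => h (hP i), hd, rfl⟩

theorem limitSub_mul_eq_zero (β : R) (hβ : β * β = 0) {S T : AddSubgroup R}
    (h : ∀ x ∈ S, ∀ y ∈ T, x * y = 0) :
    ∀ x ∈ limitSub β S, ∀ y ∈ limitSub β T, x * y = 0 := by
  rintro x ⟨P, d, hP, hd, rfl⟩ y ⟨Q, e, hQ, he, rfl⟩
  have h0 : P * Q = 0 := by
    ext m
    rw [coeff_mul, coeff_zero]
    exact Finset.sum_eq_zero fun i _ => h _ (hP i.1) _ (hQ i.2)
  rw [← coeff_mul_add_eq_of_natDegree_le hd he, ← phi_mul β hβ, h0, phi_zero, coeff_zero]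

/-- images of degree `< m` -/
def levelSet (β : R) (S : AddSubgroup R) (m : ℕ) : Set R[X] :=
  {Z | ∃ P, InS S P ∧ phi β P = Z ∧ ∀ i, m ≤ i → Z.coeff i = 0}

theorem card_levelSet_le [Finite R] (β : R) (S : AddSubgroup R) (m : ℕ) :
    Finite (levelSet β S m) ∧
      Nat.card (levelSet β S m) ≤ Nat.card (limitSub β S) ^ m := by
  classical
  induction m with
  | zero =>
    have hsub : Subsingleton (levelSet β S 0) := by
      refine ⟨fun a b => Subtype.ext ?_⟩
      obtain ⟨P, -, -, ha⟩ := a.2
      obtain ⟨Q, -, -, hb⟩ := b.2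
      ext i
      rw [ha i (Nat.zero_le _), hb i (Nat.zero_le _)]
    exact ⟨inferInstance, by rw [pow_zero]; exact Finite.card_le_one_iff_subsingleton.2 hsub⟩
  | succ m ih =>
    haveI := ih.1
    have htop : ∀ Z : levelSet β S (m + 1), (Z : R[X]).coeff m ∈ limitSub β S := by
      rintro ⟨Z, P, hP, rfl, hZ⟩
      exact ⟨P, m, hP, natDegree_le_iff_coeff_eq_zero.2 fun N hN => hZ N hN, rfl⟩
    let s : R → R[X] := fun t =>
      if h : ∃ Z ∈ levelSet β S (m + 1), Z.coeff m = t then h.choose else 0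
    have hs : ∀ Z : levelSet β S (m + 1),
        (Z : R[X]) - s ((Z : R[X]).coeff m) ∈ levelSet β S m := by
      intro Z
      have h : ∃ Z' ∈ levelSet β S (m + 1), Z'.coeff m = (Z : R[X]).coeff m := ⟨Z, Z.2, rfl⟩
      have hsZ : s ((Z : R[X]).coeff m) = h.choose := by simp only [s, dif_pos h]
      obtain ⟨⟨Q, hQ, hQe, hQ0⟩, hc⟩ := h.choose_spec
      obtain ⟨P, hP, hPe, hP0⟩ := Z.2
      rw [hsZ]
      refine ⟨P - Q, fun i => by rw [coeff_sub]; exact sub_mem (hP i) (hQ i), ?_, fun i hi => ?_⟩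
      · rw [sub_eq_add_neg, phi_add, phi_neg, hPe, hQe, sub_eq_add_neg]
      · rw [coeff_sub]
        rcases eq_or_lt_of_le hi with rfl | hlt
        · rw [hc, sub_self]
        · rw [hP0 i hlt, hQ0 i hlt, sub_self]
    let F : levelSet β S (m + 1) → limitSub β S × levelSet β S m :=
      fun Z => (⟨_, htop Z⟩, ⟨_, hs Z⟩)
    have hF : Function.Injective F := by
      intro a b hab
      simp only [F, Prod.mk.injEq, Subtype.mk.injEq] at hab
      obtain ⟨h1, h2⟩ := hab
      rw [h1] at h2
      exact Subtype.ext (sub_left_injective h2)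
    refine ⟨Finite.of_injective F hF, ?_⟩
    calc Nat.card (levelSet β S (m + 1))
        ≤ Nat.card (limitSub β S × levelSet β S m) := Nat.card_le_card_of_injective F hF
      _ = Nat.card (limitSub β S) * Nat.card (levelSet β S m) := Nat.card_prod _ _
      _ ≤ Nat.card (limitSub β S) * Nat.card (limitSub β S) ^ m := Nat.mul_le_mul_left _ ih.2
      _ = Nat.card (limitSub β S) ^ (m + 1) := by ring

theorem card_le_limitSub [Finite R] (β : R) (hβ : β * β = 0) (S : AddSubgroup R) :
    Nat.card S ≤ Nat.card (limitSub β S) := by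
  classical
  have key : ∀ k, Nat.card S ^ k ≤ Nat.card (limitSub β S) ^ (k + 2) := by
    intro k
    haveI := (card_levelSet_le β S (k + 2)).1
    refine le_trans ?_ (card_levelSet_le β S (k + 2)).2
    let g : (Fin k → S) → R[X] := fun f => ∑ i : Fin k, C (f i : R) * X ^ (i : ℕ)
    have gc : ∀ f i, (g f).coeff i = if h : i < k then (f ⟨i, h⟩ : R) else 0 := by
      intro f i
      simp only [g, finset_sum_coeff, coeff_C_mul, coeff_X_pow, mul_ite, mul_one, mul_zero]
      split
      next h =>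
        rw [Finset.sum_eq_single ⟨i, h⟩]
        · simp
        · intro b _ hb
          exact if_neg fun he => hb (Fin.ext he.symm)
        · simp
      next h => exact Finset.sum_eq_zero fun b _ => if_neg fun (he : i = (b : ℕ)) => h (he ▸ b.2)
    have hin : ∀ f, InS S (g f) := by
      intro f i
      rw [gc]
      split
      · exact (f _).2
      · exact zero_mem S
    have hdeg : ∀ f i, k + 2 ≤ i → (phi β (g f)).coeff i = 0 := by
      intro f i hi
      have h0 : ∀ j, k ≤ j → (g f).coeff j = 0 := fun j hj => by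
        rw [gc, dif_neg (not_lt.2 hj)]
      obtain ⟨j, rfl⟩ : ∃ j, i = j + 2 := ⟨i - 2, by omega⟩
      rw [phi_eq, coeff_add, coeff_add, show j + 2 = j + 1 + 1 from rfl, coeff_mul_X, coeff_mul_X,
        coeff_mul_X, coeff_sub, coeff_C_mul, coeff_mul_C, coeff_neg, coeff_mul_C, coeff_C_mul,
        h0 _ (by omega), h0 _ (by omega), h0 _ (by omega)]
      simp
    let F : (Fin k → S) → levelSet β S (k + 2) :=
      fun f => ⟨phi β (g f), g f, hin f, rfl, hdeg f⟩
    have hF : Function.Injective F := by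
      intro a b hab
      have := phi_injective β hβ (congrArg Subtype.val hab)
      funext i
      have hc := congrArg (fun P => P.coeff (i : ℕ)) this
      simp only [gc, dif_pos i.2] at hc
      exact Subtype.ext hc
    simpa [Nat.card_fun] using Nat.card_le_card_of_injective F hF
  by_contra hlt
  push_neg at hlt
  set t := Nat.card (limitSub β S) with ht
  have htpos : 0 < t := Nat.card_pos
  have bern : ∀ k, t ^ k * (t + k) ≤ (t + 1) ^ k * t := by
    intro k
    induction k with
    | zero => simp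
    | succ k ih =>
      calc t ^ (k + 1) * (t + (k + 1)) = t ^ k * (t * (t + (k + 1))) := by ring
        _ ≤ t ^ k * ((t + k) * (t + 1)) := Nat.mul_le_mul_left _ (by nlinarith)
        _ = t ^ k * (t + k) * (t + 1) := by ring
        _ ≤ (t + 1) ^ k * t * (t + 1) := Nat.mul_le_mul_right _ ih
        _ = (t + 1) ^ (k + 1) * t := by ring
  have h1 : t ^ t ^ 3 * (t + t ^ 3) ≤ t ^ t ^ 3 * t ^ 3 :=
    calc t ^ t ^ 3 * (t + t ^ 3) ≤ (t + 1) ^ t ^ 3 * t := bern _
      _ ≤ t ^ (t ^ 3 + 2) * t :=
          Nat.mul_le_mul_right _ ((Nat.pow_le_pow_left hlt _).trans (key _))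
      _ = t ^ t ^ 3 * t ^ 3 := by ring
  have := Nat.le_of_mul_le_mul_left h1 (Nat.pow_pos htpos)
  omega

end Cfsg.Agent.Lib.Offender69
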