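import Mathlib

/-!
The representation of the normaliser of an elementary abelian `V` on `V × ZMod p`, the embedding
of vectors as endomorphisms, and the fixed-point filtration.
-/

set_option autoImplicit false

open scoped IsMulCommutative

namespace Cfsg.Agent.Lib.Offender69

variable {Ω : Type*} [Group Ω] {V G : Subgroup Ω} {p : ℕ}

/-- the space `V × ZMod p` -/
abbrev Space (V : Subgroup Ω) [IsMulCommutative V] (p : ℕ) := Additive V × ZMod p

/-- conjugation on `V` -/
def conjV [IsMulCommutative V] (hGV : G ≤ Subgroup.normalizer (V : Set Ω)) (g : G) :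
    Additive V →+ Additive V where
  toFun v := Additive.ofMul ⟨(g : Ω) * ((Additive.toMul v : V) : Ω) * (g : Ω)⁻¹,
    (Subgroup.mem_normalizer_iff.1 (hGV g.2) _).1 (Additive.toMul v).2⟩
  map_zero' := by apply Additive.toMul.injective; ext; simp
  map_add' a b := by apply Additive.toMul.injective; ext; simp [mul_assoc]

/-- the representation -/
def rep [IsMulCommutative V] (p : ℕ) (hGV : G ≤ Subgroup.normalizer (V : Set Ω)) :
    G →* AddMonoid.End (Space V p) where
  toFun g := AddMonoidHom.prodMap (conjV hGV g) (AddMonoidHom.id (ZMod p))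
  map_one' := by
    apply DFunLike.ext
    rintro ⟨v, c⟩
    refine Prod.ext ?_ rfl
    change (conjV hGV 1) v = v
    apply Additive.toMul.injective; ext; simp [conjV]
  map_mul' g h := by
    apply DFunLike.ext
    rintro ⟨v, c⟩
    refine Prod.ext ?_ rfl
    change conjV hGV (g * h) v = conjV hGV g (conjV hGV h v)
    apply Additive.toMul.injective; ext; simp [conjV, mul_assoc]

variable [IsMulCommutative V]

theorem rep_fst (hGV : G ≤ Subgroup.normalizer (V : Set Ω)) (g : G) (u : Space V p) :
    (rep p hGV g u).1 = conjV hGV g u.1 := rfl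

theorem rep_snd (hGV : G ≤ Subgroup.normalizer (V : Set Ω)) (g : G) (u : Space V p) :
    (rep p hGV g u).2 = u.2 := rfl

theorem rep_injective (hGV : G ≤ Subgroup.normalizer (V : Set Ω))
    (hfaith : G ⊓ Subgroup.centralizer (V : Set Ω) = ⊥) : Function.Injective (rep p hGV) := by
  rw [injective_iff_map_eq_one]
  intro g hg
  have hc : (g : Ω) ∈ Subgroup.centralizer (V : Set Ω) := by
    refine Subgroup.mem_centralizer_iff.2 fun v hv => ?_
    have h := congrArg (fun f => (f ((Additive.ofMul (⟨v, hv⟩ : V), 0) : Space V p)).1) hg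
    have h' : (g : Ω) * v * (g : Ω)⁻¹ = v :=
      congrArg (fun x : Additive V => ((Additive.toMul x : V) : Ω)) h
    exact (mul_inv_eq_iff_eq_mul.1 h').symm
  have : (g : Ω) ∈ G ⊓ Subgroup.centralizer (V : Set Ω) := ⟨g.2, hc⟩
  rw [hfaith, Subgroup.mem_bot] at this
  exact Subtype.ext this

theorem nsmul_addV (hp : ∀ v ∈ V, v ^ p = 1) (v : Additive V) : p • v = 0 := by
  apply Additive.toMul.injective
  ext
  simp [hp _ (Additive.toMul v).2]

theorem char_space (hp : ∀ v ∈ V, v ^ p = 1) :
    ((p : AddMonoid.End (Space V p))) = 0 := by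
  apply DFunLike.ext
  intro u
  rw [AddMonoid.End.natCast_apply]
  refine Prod.ext ?_ ?_
  · exact nsmul_addV hp u.1
  · change p • u.2 = 0
    rw [nsmul_eq_mul, ZMod.natCast_self, zero_mul]

/-- A vector as an endomorphism. -/
def hat [NeZero p] (hp : ∀ v ∈ V, v ^ p = 1) : Additive V →+ AddMonoid.End (Space V p) :=
  AddMonoidHom.mk' (fun v =>
    ({ toFun := fun u => (u.2.val • v, 0)
       map_zero' := by simp
       map_add' := fun a b => by
        refine Prod.ext ?_ (by simp)
        change (a.2 + b.2).val • v = a.2.val • v + b.2.val • v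
        rw [← add_nsmul, ZMod.val_add]
        conv_rhs => rw [← Nat.mod_add_div (a.2.val + b.2.val) p, add_nsmul, mul_nsmul,
          nsmul_addV hp, nsmul_zero, add_zero] } : Space V p →+ Space V p))
    (fun v w => by
      apply DFunLike.ext
      intro u
      refine Prod.ext ?_ ?_
      · exact nsmul_add v w _
      · exact (add_zero 0).symm)

theorem hat_apply [NeZero p] (hp : ∀ v ∈ V, v ^ p = 1) (v : Additive V) (u : Space V p) :
    hat hp v u = (u.2.val • v, 0) := rfl

theorem hat_injective [Fact p.Prime] (hp : ∀ v ∈ V, v ^ p = 1) :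
    Function.Injective (hat (p := p) hp) := by
  intro v w h
  have h' := congrArg (fun f => (f ((0, 1) : Space V p)).1) h
  simpa [hat_apply, ZMod.val_one] using h'

theorem sub_one_mul_hat [NeZero p] (hp : ∀ v ∈ V, v ^ p = 1)
    (hGV : G ≤ Subgroup.normalizer (V : Set Ω)) (g : G) (v : Additive V) :
    (rep p hGV g - 1) * hat hp v = hat hp (conjV hGV g v - v) := by
  apply DFunLike.ext
  intro u
  refine Prod.ext ?_ ?_
  · change conjV hGV g (u.2.val • v) - u.2.val • v = u.2.val • (conjV hGV g v - v)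
    rw [map_nsmul, nsmul_sub]
  · change (0 : ZMod p) - 0 = 0
    simp

theorem hat_mul_sub_one [NeZero p] (hp : ∀ v ∈ V, v ^ p = 1)
    (hGV : G ≤ Subgroup.normalizer (V : Set Ω)) (g : G) (v : Additive V) :
    hat hp v * (rep p hGV g - 1) = 0 := by
  apply DFunLike.ext
  intro u
  change hat hp v (rep p hGV g u - u) = 0
  rw [hat_apply, Prod.snd_sub, rep_snd, sub_self, ZMod.val_zero, zero_nsmul]
  rfl

theorem conjV_eq_iff (hGV : G ≤ Subgroup.normalizer (V : Set Ω)) (g : G) (v : V) :
    conjV hGV g (Additive.ofMul v) = Additive.ofMul v ↔ (g : Ω) * v = v * g := by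
  constructor
  · intro h
    have h' : (g : Ω) * v * (g : Ω)⁻¹ = v :=
      congrArg (fun x : Additive V => ((Additive.toMul x : V) : Ω)) h
    exact mul_inv_eq_iff_eq_mul.1 h'
  · intro h
    apply Additive.toMul.injective
    ext
    change (g : Ω) * v * (g : Ω)⁻¹ = v
    rw [h, mul_inv_cancel_right]

/-- commutators in additive notation -/
theorem coe_conjV_sub (hGV : G ≤ Subgroup.normalizer (V : Set Ω)) (g : G) (v : Additive V) :
    ((Additive.toMul (conjV hGV g v - v) : V) : Ω) =
      (g : Ω) * (Additive.toMul v : V) * (g : Ω)⁻¹ * ((Additive.toMul v : V) : Ω)⁻¹ := by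
  simp [conjV, div_eq_mul_inv]

/-- an endomorphism as an additive map -/
def hom {U : Type*} [AddCommGroup U] (x : AddMonoid.End U) : U →+ U := x

/-- fixed point series -/
def fixSeries {H U : Type*} [Group H] [AddCommGroup U] (ρ : H →* AddMonoid.End U) :
    ℕ → AddSubgroup U
  | 0 => ⊥
  | i + 1 => ⨅ g : H, (fixSeries ρ i).comap (hom (ρ g - 1))

theorem fixSeries_le_succ {H U : Type*} [Group H] [AddCommGroup U] (ρ : H →* AddMonoid.End U)
    (i : ℕ) : fixSeries ρ i ≤ fixSeries ρ (i + 1) := by
  induction i with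
  | zero => exact bot_le
  | succ i ih =>
    intro u hu
    simp only [fixSeries, AddSubgroup.mem_iInf, AddSubgroup.mem_comap] at hu ⊢
    intro g
    have := ih (hu g)
    simp only [fixSeries, AddSubgroup.mem_iInf, AddSubgroup.mem_comap] at this
    exact this

theorem fixSeries_eventually_top {H U : Type*} [Group H] [Finite H] [AddCommGroup U] [Finite U]
    {p : ℕ} [Fact p.Prime] (hH : IsPGroup p H) (hU : ∀ u : U, p • u = 0)
    (ρ : H →* AddMonoid.End U) : ∃ n, fixSeries ρ n = ⊤ := by
  classical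
  obtain ⟨n, hn⟩ := wellFoundedGT_iff_monotone_chain_condition.1 inferInstance
    ⟨fixSeries ρ, monotone_nat_of_le_succ (fixSeries_le_succ ρ)⟩
  have hn' : fixSeries ρ n = fixSeries ρ (n + 1) := hn (n + 1) (Nat.le_succ n)
  refine ⟨n, ?_⟩
  by_contra hne
  set Z := fixSeries ρ n with hZ
  have hst : ∀ g : H, Z ≤ Z.comap (hom (ρ g)) := by
    intro g u hu
    have h1 : u ∈ fixSeries ρ (n + 1) := hn' ▸ hu
    simp only [fixSeries, AddSubgroup.mem_iInf, AddSubgroup.mem_comap] at h1
    have h2 := add_mem (show (hom (ρ g)) u - u ∈ Z from h1 g) hu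
    rw [sub_add_cancel] at h2
    exact h2
  letI : MulAction H (U ⧸ Z) :=
    { smul := fun g q => QuotientAddGroup.map Z Z (hom (ρ g)) (hst g) q
      one_smul := fun q => by
        induction q using QuotientAddGroup.induction_on with
        | H u =>
          change QuotientAddGroup.map Z Z (hom (ρ 1)) (hst 1) u = _
          rw [QuotientAddGroup.map_mk]
          exact congrArg _ (DFunLike.congr_fun (map_one ρ) u)
      mul_smul := fun g h q => by
        induction q using QuotientAddGroup.induction_on with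
        | H u =>
          change QuotientAddGroup.map Z Z (hom (ρ (g * h))) (hst _) u =
            QuotientAddGroup.map Z Z (hom (ρ g)) (hst g)
              (QuotientAddGroup.map Z Z (hom (ρ h)) (hst h) u)
          simp only [QuotientAddGroup.map_mk]
          exact congrArg _ (DFunLike.congr_fun (map_mul ρ g h) u) }
  obtain ⟨u, -, hu⟩ := SetLike.exists_of_lt (lt_top_iff_ne_top.2 hne)
  have hq : (QuotientAddGroup.mk u : U ⧸ Z) ≠ 0 := by
    rwa [Ne, QuotientAddGroup.eq_zero_iff]
  have hdvd : p ∣ Nat.card (U ⧸ Z) := by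
    have h0 : p • (QuotientAddGroup.mk u : U ⧸ Z) = 0 := by
      rw [← QuotientAddGroup.mk_nsmul, hU]
      rfl
    rw [← addOrderOf_eq_prime h0 hq]
    exact addOrderOf_dvd_natCard _
  have hfix : (0 : U ⧸ Z) ∈ MulAction.fixedPoints H (U ⧸ Z) := fun g => by
    change QuotientAddGroup.map Z Z (hom (ρ g)) (hst g) 0 = 0
    exact map_zero _
  obtain ⟨q, hq', hne0⟩ := hH.exists_fixed_point_of_prime_dvd_card_of_fixed_point _ hdvd hfix
  obtain ⟨w, rfl⟩ := QuotientAddGroup.mk_surjective q
  apply hne0
  symm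
  rw [QuotientAddGroup.eq_zero_iff]
  rw [hn']
  simp only [fixSeries, AddSubgroup.mem_iInf, AddSubgroup.mem_comap]
  intro g
  have h1 : QuotientAddGroup.map Z Z (hom (ρ g)) (hst g) (w : U ⧸ Z) = (w : U ⧸ Z) := hq' g
  rw [QuotientAddGroup.map_mk, QuotientAddGroup.eq] at h1
  have := neg_mem h1
  rw [neg_add_rev, neg_neg, neg_add_eq_sub] at this
  exact this

/-- maps lowering the fixed point series by `k` -/
def lowering {H U : Type*} [Group H] [AddCommGroup U] (ρ : H →* AddMonoid.End U) (k : ℕ) :
    AddSubgroup (AddMonoid.End U) where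
  carrier := {x | ∀ i, ∀ u ∈ fixSeries ρ i, hom x u ∈ fixSeries ρ (i - k)}
  zero_mem' := fun i u _ => zero_mem (fixSeries ρ (i - k))
  add_mem' := fun hx hy i u hu => add_mem (hx i u hu) (hy i u hu)
  neg_mem' := fun hx i u hu => neg_mem (hx i u hu)

theorem sub_one_mem_fixSeries {H U : Type*} [Group H] [AddCommGroup U]
    (ρ : H →* AddMonoid.End U) (g : H) {i : ℕ} {u : U} (hu : u ∈ fixSeries ρ i) :
    hom (ρ g - 1) u ∈ fixSeries ρ (i - 1) := by
  rcases i with _ | i
  · rw [fixSeries, AddSubgroup.mem_bot] at hu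
    rw [hu, map_zero]
    exact zero_mem _
  · simp only [fixSeries, AddSubgroup.mem_iInf, AddSubgroup.mem_comap] at hu
    exact hu g

theorem lowering_spec {H U : Type*} [Group H] [Finite H] [AddCommGroup U] [Finite U]
    {p : ℕ} [Fact p.Prime] (hH : IsPGroup p H) (hU : ∀ u : U, p • u = 0)
    (ρ : H →* AddMonoid.End U) :
    (∀ k, lowering ρ (k + 1) ≤ lowering ρ k) ∧
    (∀ g : H, ρ g - 1 ∈ lowering ρ 0) ∧
    (∀ (g : H) k, ∀ x ∈ lowering ρ k, (ρ g - 1) * x ∈ lowering ρ (k + 1)) ∧
    (∀ (g : H) k, ∀ x ∈ lowering ρ k, x * (ρ g - 1) ∈ lowering ρ (k + 1)) ∧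
    ∃ n, lowering ρ n = ⊥ := by
  have hmono : Monotone (fixSeries ρ) := monotone_nat_of_le_succ (fixSeries_le_succ ρ)
  refine ⟨fun k x hx i u hu => hmono (show i - (k + 1) ≤ i - k by omega) (hx i u hu), fun g i u hu =>
    hmono (show i - 1 ≤ i - 0 by omega) (sub_one_mem_fixSeries ρ g hu), fun g k x hx i u hu => ?_,
    fun g k x hx i u hu => ?_, ?_⟩
  · have := sub_one_mem_fixSeries ρ g (hx i u hu)
    rw [show i - (k + 1) = i - k - 1 by omega]
    exact this
  · have := hx _ _ (sub_one_mem_fixSeries ρ g hu)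
    rw [show i - (k + 1) = i - 1 - k by omega]
    exact this
  · obtain ⟨n, hn⟩ := fixSeries_eventually_top hH hU ρ
    refine ⟨n, le_bot_iff.1 fun x hx => ?_⟩
    rw [AddSubgroup.mem_bot]
    apply DFunLike.ext
    intro u
    have := hx n u (by rw [hn]; exact AddSubgroup.mem_top u)
    rw [Nat.sub_self, fixSeries, AddSubgroup.mem_bot] at this
    exact this

end Cfsg.Agent.Lib.Offender69
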