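import Cfsg.Prelude.Def_Transfer
import Cfsg.Agent.Lib.PGroup.Replacement
import Cfsg.Agent.Lib.Offender69.Exp
import Cfsg.Agent.Lib.Offender69.Rep

/-!
A p-group with an offender on an elementary abelian group has a quadratic offender which is
normalised by its conjugates, for odd `p`.
-/

set_option autoImplicit false

namespace Cfsg.Agent.Lib.Offender69

open scoped IsMulCommutative
open scoped commutatorElement

section RingIdentities

variable {R : Type*} [Ring R]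

theorem mul_sub_one_eq (a b : R) : a * b - 1 = (a - 1) + (b - 1) + (a - 1) * (b - 1) := by
  noncomm_ring

theorem sub_neg_sub_eq (a b : R) :
    b - 1 - -(a - 1) = a * b - 1 - (a - 1) * (b - 1) := by noncomm_ring

theorem two_sub_mul (a : R) : (1 - (a - 1)) * a = 1 - (a - 1) * (a - 1) := by noncomm_ring

theorem conj_plus (β x : R) : (1 + β) * x * (1 - β) = x + nMap β x + qMap β x := by
  simp only [nMap, qMap]; noncomm_ring

theorem conj_minus (β x : R) : (1 - β) * x * (1 + β) = x - nMap β x + qMap β x := by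
  simp only [nMap, qMap]; noncomm_ring

theorem qMap_double (β x : R) (h : β * β = 0) :
    qMap β x + qMap β x = nMap β (nMap β x) := by
  simp only [nMap, qMap]
  noncomm_ring [h]
  simp [← mul_assoc, h]

end RingIdentities

variable {Ω : Type*} [Group Ω] {p : ℕ}

/-- Thompson–Timmesfeld: a quadratic offender exists. -/
theorem exists_quadratic_offender [Finite Ω] [Fact p.Prime] {V G : Subgroup Ω}
    (hVc : IsMulCommutative V) (hVp : IsPGroup p V) (hG : IsPGroup p G)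
    (hGV : G ≤ Subgroup.normalizer (V : Set Ω))
    (hfaith : G ⊓ Subgroup.centralizer (V : Set Ω) = ⊥) {E : Subgroup Ω} (hEG : E ≤ G)
    (hEne : E ≠ ⊥) (hEc : IsMulCommutative E)
    (hE : Nat.card V ≤ Nat.card E * Nat.card ↥(V ⊓ Subgroup.centralizer (E : Set Ω))) :
    ∃ X : Subgroup Ω, X ≤ G ∧ X ≠ ⊥ ∧ ⁅⁅V, X⁆, X⁆ = ⊥ ∧
      Nat.card V ≤ Nat.card X * Nat.card ↥(V ⊓ Subgroup.centralizer (X : Set Ω)) := by
  classical
  have hV : ∀ x ∈ V, ∀ y ∈ V, x * y = y * x := fun x hx y hy => Subgroup.mul_comm_of_mem_isMulCommutative V hx hy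
  set m : Subgroup Ω → ℕ :=
    fun B => Nat.card B * Nat.card ↥(V ⊓ Subgroup.centralizer (B : Set Ω)) with hm
  obtain ⟨B₁, hB₁, hB₁max⟩ := Set.exists_max_image {B : Subgroup Ω | B ≤ E} m (Set.toFinite _)
    ⟨E, le_refl E⟩
  have hVm : Nat.card V ≤ m B₁ := hE.trans (hB₁max E (le_refl E))
  have hbot : m ⊥ = Nat.card V := by
    simp only [hm]
    rw [Subgroup.card_bot, one_mul, inf_eq_left.2]
    intro v _
    exact Subgroup.mem_centralizer_iff.2 fun h hh => by
      rw [Subgroup.mem_bot.1 hh, one_mul, mul_one]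
  obtain ⟨A, hAE, hAne, hAmax⟩ : ∃ A, A ≤ E ∧ A ≠ ⊥ ∧ ∀ B ≤ E, m B ≤ m A := by
    by_cases h : B₁ = ⊥
    · refine ⟨E, le_refl E, hEne, fun B hB => ?_⟩
      calc m B ≤ m B₁ := hB₁max B hB
        _ = Nat.card V := by rw [h, hbot]
        _ ≤ m E := hE
    · exact ⟨B₁, hB₁, h, hB₁max⟩
  have hAV : A ≤ Subgroup.normalizer (V : Set Ω) := (hAE.trans hEG).trans hGV
  have hab : ⁅A, A⁆ ≤ Subgroup.centralizer (V : Set Ω) := by
    refine le_trans ?_ bot_le
    rw [le_bot_iff, Subgroup.commutator_eq_bot_iff_le_centralizer]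
    exact fun x hx => Subgroup.mem_centralizer_iff.2 fun y hy =>
      Subgroup.mul_comm_of_mem_isMulCommutative E (hAE hy) (hAE hx)
  obtain ⟨hfix, hcard⟩ := Replacement.replacement hV hAV hab (le_refl V)
    (fun B hB => hAmax B (hB.trans hAE))
  set X := A ⊓ Subgroup.centralizer ((⁅V, A⁆ : Subgroup Ω) : Set Ω) with hX
  refine ⟨X, (inf_le_left.trans hAE).trans hEG, ?_, ?_, ?_⟩
  · intro hX0
    rw [hX0] at hfix
    have hC : V ⊓ Subgroup.centralizer ((⊥ : Subgroup Ω) : Set Ω) = V := by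
      refine inf_eq_left.2 fun v _ => Subgroup.mem_centralizer_iff.2 fun h hh => ?_
      rw [Subgroup.mem_bot.1 hh, one_mul, mul_one]
    rw [hC] at hfix
    set R := ⁅V, A⁆ with hR
    have hRV : R ≤ V := Quadratic.commutator_le hAV
    have h1 : R ≤ ⁅R, A⁆ := by
      have hc : ⁅V ⊓ Subgroup.centralizer (A : Set Ω), A⁆ = ⊥ :=
        Subgroup.commutator_eq_bot_iff_le_centralizer.2 inf_le_right
      conv_lhs => rw [hR, hfix, Quadratic.commutator_sup hV hAV hRV inf_le_left, hc, sup_bot_eq]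
    have hS : IsPGroup p (V ⊔ A : Subgroup Ω) :=
      hVp.to_sup_of_normal_left' (hG.to_le (hAE.trans hEG)) hAV
    have hR0 : R = ⊥ := Quadratic.eq_bot_of_le_commutator hS (hRV.trans le_sup_left)
      (h1.trans (Subgroup.commutator_mono le_rfl le_sup_right))
    apply hAne
    rw [eq_bot_iff, ← hfaith]
    exact le_inf (hAE.trans hEG) (Subgroup.le_centralizer_iff.1
      (Subgroup.commutator_eq_bot_iff_le_centralizer.1 hR0))
  · rw [Subgroup.commutator_eq_bot_iff_le_centralizer]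
    refine (Subgroup.commutator_mono le_rfl inf_le_left).trans ?_
    exact Subgroup.le_centralizer_iff.1 inf_le_right
  · calc Nat.card V ≤ m B₁ := hVm
      _ ≤ m A := hAmax B₁ hB₁
      _ = m X := hcard

variable {V G : Subgroup Ω} [IsMulCommutative V]

/-- all products of `ρ a - 1` vanish -/
def IsQuad (p : ℕ) (hGV : G ≤ Subgroup.normalizer (V : Set Ω)) (A : Subgroup G) : Prop :=
  ∀ a ∈ A, ∀ b ∈ A, (rep p hGV a - 1) * (rep p hGV b - 1) = 0

/-- the additive subgroup of a quadratic subgroup -/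
def lieOf (hGV : G ≤ Subgroup.normalizer (V : Set Ω)) {A : Subgroup G} (hA : IsQuad p hGV A) :
    AddSubgroup (AddMonoid.End (Space V p)) where
  carrier := (fun a => rep p hGV a - 1) '' (A : Set G)
  zero_mem' := ⟨1, A.one_mem, by simp⟩
  add_mem' := by
    rintro x y ⟨a, ha, rfl⟩ ⟨b, hb, rfl⟩
    refine ⟨a * b, A.mul_mem ha hb, ?_⟩
    have h := hA a ha b hb
    change rep p hGV (a * b) - 1 = rep p hGV a - 1 + (rep p hGV b - 1)
    rw [map_mul, mul_sub_one_eq, h, add_zero]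
  neg_mem' := by
    rintro x ⟨a, ha, rfl⟩
    refine ⟨a⁻¹, A.inv_mem ha, ?_⟩
    change rep p hGV a⁻¹ - 1 = -(rep p hGV a - 1)
    have h := hA a ha a⁻¹ (A.inv_mem ha)
    have h1 : rep p hGV a * rep p hGV a⁻¹ = 1 := by rw [← map_mul, mul_inv_cancel, map_one]
    rw [← sub_eq_zero]
    rw [sub_neg_sub_eq, h, h1, sub_self, sub_zero]

/-- fixed vectors -/
def fixOf (hGV : G ≤ Subgroup.normalizer (V : Set Ω)) (A : Subgroup G) :
    AddSubgroup (Additive V) where
  carrier := {v | ∀ a ∈ A, conjV hGV a v = v}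
  zero_mem' := fun a _ => map_zero _
  add_mem' := fun hv hw a ha => by rw [map_add, hv a ha, hw a ha]
  neg_mem' := fun hv a ha => by rw [map_neg, hv a ha]

theorem card_fixOf (hGV : G ≤ Subgroup.normalizer (V : Set Ω)) (A : Subgroup G) :
    Nat.card (fixOf hGV A) =
      Nat.card ↥(V ⊓ Subgroup.centralizer ((A.map G.subtype : Subgroup Ω) : Set Ω)) := by
  refine Nat.card_congr
    { toFun := fun v => ⟨((Additive.toMul (v : Additive V) : V) : Ω),
        (Additive.toMul (v : Additive V)).2, ?_⟩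
      invFun := fun w => ⟨Additive.ofMul (⟨(w : Ω), w.2.1⟩ : V), ?_⟩
      left_inv := fun v => rfl
      right_inv := fun w => rfl }
  · refine Subgroup.mem_centralizer_iff.2 ?_
    rintro _ ⟨a, ha, rfl⟩
    exact (conjV_eq_iff hGV a _).1 (v.2 a ha)
  · intro a ha
    exact (conjV_eq_iff hGV a _).2
      (Subgroup.mem_centralizer_iff.1 w.2.2 _ ⟨a, ha, rfl⟩)

theorem quad_iff (hVp : ∀ v ∈ V, v ^ p = 1) [Fact p.Prime]
    (hGV : G ≤ Subgroup.normalizer (V : Set Ω)) (A : Subgroup G) :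
    IsQuad p hGV A ↔ ⁅⁅V, A.map G.subtype⁆, A.map G.subtype⁆ = ⊥ := by
  have key : ∀ (a b : G) (v : Additive V),
      conjV hGV b (conjV hGV a v - v) - (conjV hGV a v - v) = 0 ↔
        (b : Ω) * ⁅((Additive.toMul v : V) : Ω), (a : Ω)⁆ =
          ⁅((Additive.toMul v : V) : Ω), (a : Ω)⁆ * b := by
    intro a b v
    rw [sub_eq_zero]
    have hw : ((Additive.toMul (conjV hGV a v - v) : V) : Ω) =
        ⁅((Additive.toMul v : V) : Ω), (a : Ω)⁆⁻¹ := by
      rw [coe_conjV_sub]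
      simp [commutatorElement_def, mul_assoc]
    refine (conjV_eq_iff hGV b (Additive.toMul (conjV hGV a v - v))).trans ?_
    rw [hw]
    constructor
    · intro h
      simpa using (Commute.inv_right (show Commute (b : Ω) _ from h)).eq
    · intro h
      exact (Commute.inv_right (show Commute (b : Ω) _ from h)).eq
  constructor
  · intro h
    rw [Subgroup.commutator_eq_bot_iff_le_centralizer, Subgroup.commutator_le]
    rintro v hv _ ⟨a, ha, rfl⟩
    rw [Subgroup.mem_centralizer_iff]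
    rintro _ ⟨b, hb, rfl⟩
    refine (key a b (Additive.ofMul (⟨v, hv⟩ : V))).1 ?_
    exact congrArg Prod.fst
      (DFunLike.congr_fun (h b hb a ha) ((Additive.ofMul (⟨v, hv⟩ : V), 0) : Space V p))
  · intro h b hb a ha
    apply DFunLike.ext
    rintro ⟨v, c⟩
    refine Prod.ext ?_ ?_
    · change conjV hGV b (conjV hGV a v - v) - (conjV hGV a v - v) = 0
      rw [key]
      rw [Subgroup.commutator_eq_bot_iff_le_centralizer] at h
      exact Subgroup.mem_centralizer_iff.1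
        (h (Subgroup.commutator_mem_commutator (Additive.toMul v).2 ⟨a, ha, rfl⟩)) _ ⟨b, hb, rfl⟩
    · change (c - c) - (c - c) = (0 : ZMod p)
      simp

/-- the core statement on subgroups of `G` -/
theorem exists_normalised [Finite Ω] [Fact p.Prime] (hodd : Odd p) (hVp : ∀ v ∈ V, v ^ p = 1)
    (hG : IsPGroup p G) (hGV : G ≤ Subgroup.normalizer (V : Set Ω))
    (hfaith : G ⊓ Subgroup.centralizer (V : Set Ω) = ⊥) (A₀ : Subgroup G) (hA₀ : A₀ ≠ ⊥)
    (hq₀ : IsQuad p hGV A₀) (hc₀ : Nat.card V ≤ Nat.card A₀ * Nat.card (fixOf hGV A₀)) :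
    ∃ A : Subgroup G, A ≠ ⊥ ∧ IsQuad p hGV A ∧
      Nat.card V ≤ Nat.card A * Nat.card (fixOf hGV A) ∧
      ∀ h : G, ∀ a ∈ A, h * a * h⁻¹ ∈ Subgroup.normalizer (A : Set G) := by
  classical
  haveI : NeZero p := ⟨(Fact.out : p.Prime).ne_zero⟩
  haveI : Finite (AddMonoid.End (Space V p)) :=
    Finite.of_injective (fun f => (f : Space V p → Space V p)) DFunLike.coe_injective
  have hp0 := char_space (p := p) hVp
  have hU : ∀ u : Space V p, p • u = 0 := fun u => by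
    rw [← AddMonoid.End.natCast_apply, hp0]; rfl
  set ρ := rep p hGV with hρ
  have hinj : Function.Injective fun a => ρ a - 1 := fun a b h =>
    rep_injective hGV hfaith (sub_left_injective h)
  obtain ⟨hFm, hF0, hFl, hFr, n, hFn⟩ := lowering_spec hG hU ρ
  set F := lowering ρ with hF
  let pot : Subgroup G → ℕ := fun A =>
    ∑ k ∈ Finset.range n, {a | a ∈ A ∧ ρ a - 1 ∈ F k}.ncard
  let good : Subgroup G → Prop := fun A =>
    A ≠ ⊥ ∧ IsQuad p hGV A ∧ Nat.card V ≤ Nat.card A * Nat.card (fixOf hGV A)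
  obtain ⟨A, ⟨hAne, hAq, hAc⟩, hAmax⟩ := Set.exists_max_image {A | good A} pot (Set.toFinite _)
    ⟨A₀, hA₀, hq₀, hc₀⟩
  refine ⟨A, hAne, hAq, hAc, ?_⟩
  by_contra hcon
  set S : Set G := {x | ∃ h, ∃ a ∈ A, x = h * a * h⁻¹} with hS
  set K := Subgroup.closure (S ∩ (Subgroup.normalizer (A : Set G) : Set G)) with hK
  have hSne : ¬ S ⊆ (K : Set G) := by
    intro h
    apply hcon
    intro g a ha
    exact ((Subgroup.closure_le _).2 Set.inter_subset_right) (h ⟨g, a, ha, rfl⟩)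
  have hAK : A ≤ K := fun a ha => Subgroup.subset_closure
    ⟨⟨1, a, ha, by simp⟩, Subgroup.le_normalizer ha⟩
  have hKA : K ≤ Subgroup.normalizer (A : Set G) := (Subgroup.closure_le _).2 Set.inter_subset_right
  -- some conjugate outside `K` normalises `K`
  obtain ⟨b, hbS, hbN, hbK⟩ : ∃ b, b ∈ S ∧ b ∈ Subgroup.normalizer (K : Set G) ∧ b ∉ K := by
    by_contra hno
    push_neg at hno
    haveI : Group.IsNilpotent G := hG.isNilpotent
    set N1 := Subgroup.normalizer (K : Set G) with hN1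
    have hSeq : S ∩ (N1 : Set G) = S ∩ (K : Set G) :=
      Set.Subset.antisymm (fun x hx => ⟨hx.1, hno x hx.1 hx.2⟩)
        (fun x hx => ⟨hx.1, Subgroup.le_normalizer hx.2⟩)
    have hKcl : Subgroup.closure (S ∩ (K : Set G)) = K := by
      refine le_antisymm ((Subgroup.closure_le _).2 Set.inter_subset_right) ?_
      conv_lhs => rw [hK]
      exact (Subgroup.closure_le _).2 fun x hx =>
        Subgroup.subset_closure ⟨hx.1, Subgroup.subset_closure hx⟩
    have hself : Subgroup.normalizer (N1 : Set G) = N1 := by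
      refine le_antisymm (fun g hg => ?_) Subgroup.le_normalizer
      have hconj : ∀ g ∈ Subgroup.normalizer (N1 : Set G), ∀ x ∈ K, g * x * g⁻¹ ∈ K := by
        intro g hg x hx
        have : K ≤ K.comap (MulAut.conj g).toMonoidHom := by
          conv_lhs => rw [← hKcl]
          refine (Subgroup.closure_le _).2 ?_
          rintro y ⟨⟨h, a, ha, rfl⟩, hyK⟩
          change g * (h * a * h⁻¹) * g⁻¹ ∈ K
          apply hno _ ⟨g * h, a, ha, by group⟩
          exact (Subgroup.mem_normalizer_iff.1 hg _).1 (Subgroup.le_normalizer hyK)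
        exact this hx
      refine Subgroup.mem_normalizer_iff.2 fun x => ⟨hconj g hg x, fun hx => ?_⟩
      simpa [mul_assoc] using hconj g⁻¹ (inv_mem hg) _ hx
    have htop : N1 = ⊤ :=
      (normalizerCondition_iff_only_full_group_self_normalizing.1
        Group.normalizerCondition_of_isNilpotent) N1 hself
    exact hSne fun x hx => hno x hx (htop ▸ Subgroup.mem_top x)
  -- the ring elements
  obtain ⟨h₀, a₀, ha₀, rfl⟩ := hbS
  set b := h₀ * a₀ * h₀⁻¹ with hb
  set β := ρ b - 1 with hβdef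
  have hrm : ∀ x y : G, ρ x * ρ y = ρ (x * y) := fun x y => (map_mul ρ x y).symm
  have hββ : β * β = 0 := by
    have e : β = ρ h₀ * (ρ a₀ - 1) * ρ h₀⁻¹ := by
      rw [hβdef, hb, map_mul, map_mul, mul_sub, sub_mul, mul_one, hrm h₀ h₀⁻¹, mul_inv_cancel,
        map_one]
    rw [e]
    calc ρ h₀ * (ρ a₀ - 1) * ρ h₀⁻¹ * (ρ h₀ * (ρ a₀ - 1) * ρ h₀⁻¹)
        = ρ h₀ * (ρ a₀ - 1) * (ρ h₀⁻¹ * ρ h₀) * (ρ a₀ - 1) * ρ h₀⁻¹ := by
          simp only [mul_assoc]
      _ = ρ h₀ * ((ρ a₀ - 1) * (ρ a₀ - 1)) * ρ h₀⁻¹ := by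
          rw [hrm h₀⁻¹ h₀, inv_mul_cancel, map_one, mul_one]; simp only [mul_assoc]
      _ = 0 := by rw [hAq a₀ ha₀ a₀ ha₀]; simp
  have hρb : ρ b = 1 + β := by rw [hβdef]; abel
  have inv_of : ∀ x : G, (ρ x - 1) * (ρ x - 1) = 0 → ρ x⁻¹ = 1 - (ρ x - 1) := by
    intro x hx
    have h1 : (1 - (ρ x - 1)) * ρ x = 1 := by
      calc (1 - (ρ x - 1)) * ρ x = 1 - (ρ x - 1) * (ρ x - 1) := two_sub_mul _
        _ = 1 := by rw [hx, sub_zero]
    calc ρ x⁻¹ = (1 - (ρ x - 1)) * ρ x * ρ x⁻¹ := by rw [h1, one_mul]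
      _ = _ := by rw [mul_assoc, hrm, mul_inv_cancel, map_one, mul_one]
  have hρb' : ρ b⁻¹ = 1 - β := inv_of b hββ
  -- the three subgroups
  let cs : Fin 3 → G := ![1, b, b⁻¹]
  have hcs : ∀ i, cs i ∈ Subgroup.normalizer (K : Set G) := by
    intro i; fin_cases i
    · exact one_mem _
    · exact hbN
    · exact inv_mem hbN
  let As : Fin 3 → Subgroup G := fun i => A.map (MulAut.conj (cs i)).toMonoidHom
  have hAsq : ∀ i, IsQuad p hGV (As i) := by
    rintro i _ ⟨x, hx, rfl⟩ _ ⟨y, hy, rfl⟩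
    change (ρ (cs i * x * (cs i)⁻¹) - 1) * (ρ (cs i * y * (cs i)⁻¹) - 1) = 0
    have e : ∀ z, ρ (cs i * z * (cs i)⁻¹) - 1 = ρ (cs i) * (ρ z - 1) * ρ (cs i)⁻¹ := by
      intro z
      rw [map_mul, map_mul, mul_sub, sub_mul, mul_one, hrm (cs i) (cs i)⁻¹, mul_inv_cancel, map_one]
    rw [e, e]
    calc ρ (cs i) * (ρ x - 1) * ρ (cs i)⁻¹ * (ρ (cs i) * (ρ y - 1) * ρ (cs i)⁻¹)
        = ρ (cs i) * (ρ x - 1) * (ρ (cs i)⁻¹ * ρ (cs i)) * (ρ y - 1) * ρ (cs i)⁻¹ := by
          simp only [mul_assoc]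
      _ = ρ (cs i) * ((ρ x - 1) * (ρ y - 1)) * ρ (cs i)⁻¹ := by
          rw [hrm (cs i)⁻¹ (cs i), inv_mul_cancel, map_one, mul_one]; simp only [mul_assoc]
      _ = 0 := by rw [hAq x hx y hy]; simp
  have hKn : ∀ i, ∀ x ∈ K, cs i * x * (cs i)⁻¹ ∈ K := fun i x hx =>
    (Subgroup.mem_normalizer_iff.1 (hcs i) x).1 hx
  have hAsK : ∀ i, As i ≤ K := by
    rintro i _ ⟨x, hx, rfl⟩
    exact hKn i x (hAK hx)
  have hKAs : ∀ i, ∀ x ∈ K, ∀ y ∈ As i, x * y * x⁻¹ ∈ As i := by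
    rintro i x hx _ ⟨y, hy, rfl⟩
    have hx' : (cs i)⁻¹ * x * cs i ∈ K := by
      have h := (Subgroup.mem_normalizer_iff.1 (inv_mem (hcs i)) x).1 hx
      rwa [inv_inv] at h
    refine ⟨_, (Subgroup.mem_normalizer_iff.1 (hKA hx') y).1 hy, ?_⟩
    change cs i * ((cs i)⁻¹ * x * cs i * y * ((cs i)⁻¹ * x * cs i)⁻¹) * (cs i)⁻¹ =
      x * (cs i * y * (cs i)⁻¹) * x⁻¹
    group
  let L : Fin 3 → AddSubgroup (AddMonoid.End (Space V p)) := fun i => lieOf hGV (hAsq i)
  have hsq : ∀ i, ∀ x ∈ L i, ∀ y ∈ L i, x * y = 0 := by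
    rintro i _ ⟨x, hx, rfl⟩ _ ⟨y, hy, rfl⟩
    exact hAsq i x hx y hy
  have hconjL : ∀ i, ∀ z ∈ As i, ∀ x : G, (ρ x - 1) * (ρ x - 1) = 0 → x ∈ K →
      (1 + (ρ x - 1)) * (ρ z - 1) * (1 - (ρ x - 1)) ∈ L i := by
    intro i z hz x hx hxK
    refine ⟨x * z * x⁻¹, hKAs i x hxK z hz, ?_⟩
    change ρ (x * z * x⁻¹) - 1 = _
    rw [← inv_of x hx, add_sub_cancel, map_mul, map_mul, mul_sub, sub_mul, mul_one,
      hrm x x⁻¹, mul_inv_cancel, map_one]
  have hbr : ∀ i j, ∀ x ∈ L i, ∀ y ∈ L j, x * y - y * x ∈ L i ⊓ L j := by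
    rintro i j _ ⟨x, hx, rfl⟩ _ ⟨y, hy, rfl⟩
    have hmem : ∀ i j, ∀ x ∈ As i, ∀ y ∈ As j,
        (ρ x - 1) * (ρ y - 1) * (ρ x - 1) = 0 ∧
        (1 + (ρ y - 1)) * (ρ x - 1) * (1 - (ρ y - 1)) = (ρ x - 1) +
          ((ρ y - 1) * (ρ x - 1) - (ρ x - 1) * (ρ y - 1)) - (ρ y - 1) * (ρ x - 1) * (ρ y - 1) := by
      intro i j x hx y hy
      have hy2 := hAsq j y hy y hy
      refine bracket_mem hp0 hodd (hsq i) ⟨x, hx, rfl⟩ hy2 (hconjL i x hx y hy2 (hAsK j hy)) ?_
      have hyi := hAsq j _ (inv_mem hy) _ (inv_mem hy)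
      have h := hconjL i x hx y⁻¹ hyi (hAsK j (inv_mem hy))
      rw [inv_of y hy2] at h
      rw [show 1 - (ρ y - 1) - 1 = -(ρ y - 1) by abel, sub_neg_eq_add, ← sub_eq_add_neg] at h
      exact h
    have main : ∀ i j, ∀ x ∈ As i, ∀ y ∈ As j,
        (ρ x - 1) * (ρ y - 1) - (ρ y - 1) * (ρ x - 1) ∈ L i := by
      intro i j x hx y hy
      have hy2 := hAsq j y hy y hy
      have h1 := hconjL i x hx y hy2 (hAsK j hy)
      rw [(hmem i j x hx y hy).2, (hmem j i y hy x hx).1, sub_zero] at h1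
      have h2 := neg_mem (sub_mem h1 (show ρ x - 1 ∈ L i from ⟨x, hx, rfl⟩))
      rw [add_sub_cancel_left, neg_sub] at h2
      exact h2
    refine ⟨main i j x hx y hy, ?_⟩
    have := neg_mem (main j i y hy x hx)
    rwa [neg_sub] at this
  have hAs0 : As 0 = A := by
    ext x
    simp [As, cs]
  have hL0 : ∀ x, x ∈ lieOf hGV hAq → x ∈ L 0 := by
    rintro _ ⟨a, ha, rfl⟩
    exact ⟨a, hAs0.symm ▸ ha, rfl⟩
  have hL1 : ∀ x ∈ lieOf hGV hAq, (1 + β) * x * (1 - β) ∈ L 1 := by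
    rintro _ ⟨a, ha, rfl⟩
    refine ⟨b * a * b⁻¹, ⟨a, ha, rfl⟩, ?_⟩
    change ρ (b * a * b⁻¹) - 1 = _
    rw [← hρb, ← hρb', map_mul, map_mul, mul_sub, sub_mul, mul_one, hrm b b⁻¹, mul_inv_cancel,
      map_one]
  have hL2 : ∀ x ∈ lieOf hGV hAq, (1 - β) * x * (1 + β) ∈ L 2 := by
    rintro _ ⟨a, ha, rfl⟩
    refine ⟨b⁻¹ * a * b, ⟨a, ha, by simp [cs]⟩, ?_⟩
    change ρ (b⁻¹ * a * b) - 1 = _
    rw [← hρb, ← hρb', map_mul, map_mul, mul_sub, sub_mul, mul_one, hrm b⁻¹ b, inv_mul_cancel,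
      map_one]
  set LA := lieOf hGV hAq with hLA
  set T := L 0 ⊔ L 1 ⊔ L 2 with hT
  have t0 : ∀ x ∈ LA, x ∈ T := fun x hx =>
    AddSubgroup.mem_sup_left (AddSubgroup.mem_sup_left (hL0 x hx))
  have t1 : ∀ x ∈ LA, (1 + β) * x * (1 - β) ∈ T := fun x hx =>
    AddSubgroup.mem_sup_left (AddSubgroup.mem_sup_right (hL1 x hx))
  have t2 : ∀ x ∈ LA, (1 - β) * x * (1 + β) ∈ T := fun x hx =>
    AddSubgroup.mem_sup_right (hL2 x hx)
  have hlimT : limitSub β LA ≤ T := by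
    refine limitSub_le β t0 (fun x hx => mem_of_double hp0 hodd ?_)
      (fun x hx => mem_of_double hp0 hodd ?_)
    · have h := sub_mem (t1 x hx) (t2 x hx)
      rw [conj_plus, conj_minus] at h
      convert h using 1
      abel
    · have h := sub_mem (add_mem (t1 x hx) (t2 x hx)) (add_mem (t0 x hx) (t0 x hx))
      rw [conj_plus, conj_minus] at h
      convert h using 1
      abel
  have hLsq : ∀ x ∈ LA, ∀ y ∈ LA, x * y = 0 := by
    rintro _ ⟨x, hx, rfl⟩ _ ⟨y, hy, rfl⟩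
    exact hAq x hx y hy
  have hlimsq := limitSub_mul_eq_zero β hββ hLsq
  have hrange : ∀ x ∈ limitSub β LA, ∃ g, ρ g - 1 = x := by
    intro x hx
    obtain ⟨w, hw, u, hu, rfl⟩ := AddSubgroup.mem_sup.1 (hlimT hx)
    obtain ⟨u₀, h₀, u₁, h₁, rfl⟩ := AddSubgroup.mem_sup.1 hw
    obtain ⟨g, hg⟩ := MonoidHom.mem_mrange.1 (one_add_mem_of_sum hp0 hodd (MonoidHom.mrange ρ) L
      (by rintro i _ ⟨z, -, rfl⟩; exact ⟨z, by simp only [← hρ]; abel⟩)
      hsq hbr h₀ h₁ hu (hlimsq _ hx _ hx))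
    exact ⟨g, by rw [hg]; abel⟩
  let A' : Subgroup G :=
    { carrier := {g | ρ g - 1 ∈ limitSub β LA}
      one_mem' := by
        change ρ 1 - 1 ∈ limitSub β LA
        rw [map_one, sub_self]
        exact zero_mem _
      mul_mem' := by
        intro x y hx hy
        change ρ (x * y) - 1 ∈ limitSub β LA
        rw [map_mul, mul_sub_one_eq, hlimsq _ hx _ hy, add_zero]
        exact add_mem hx hy
      inv_mem' := by
        intro x hx
        change ρ x⁻¹ - 1 ∈ limitSub β LA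
        rw [inv_of x (hlimsq _ hx _ hx), show 1 - (ρ x - 1) - 1 = -(ρ x - 1) by abel]
        exact neg_mem hx }
  have hA'q : IsQuad p hGV A' := fun x hx y hy => hlimsq _ hx _ hy
  have himg : ∀ B : AddSubgroup (AddMonoid.End (Space V p)),
      ((limitSub β LA ⊓ B : AddSubgroup _) : Set (AddMonoid.End (Space V p))) =
        (fun a => ρ a - 1) '' {a | a ∈ A' ∧ ρ a - 1 ∈ B} := by
    intro B
    ext x
    constructor
    · rintro ⟨hx, hxB⟩
      obtain ⟨g, rfl⟩ := hrange x hx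
      exact ⟨g, ⟨hx, hxB⟩, rfl⟩
    · rintro ⟨g, ⟨hg, hgB⟩, rfl⟩
      exact ⟨hg, hgB⟩
  have himgA : ∀ B : AddSubgroup (AddMonoid.End (Space V p)),
      ((LA ⊓ B : AddSubgroup _) : Set (AddMonoid.End (Space V p))) =
        (fun a => ρ a - 1) '' {a | a ∈ A ∧ ρ a - 1 ∈ B} := by
    intro B
    ext x
    constructor
    · rintro ⟨⟨g, hg, rfl⟩, hxB⟩
      exact ⟨g, ⟨hg, hxB⟩, rfl⟩
    · rintro ⟨g, ⟨hg, hgB⟩, rfl⟩
      exact ⟨⟨g, hg, rfl⟩, hgB⟩
  have hcA : ∀ B : AddSubgroup (AddMonoid.End (Space V p)),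
      Nat.card ↥(LA ⊓ B) = {a | a ∈ A ∧ ρ a - 1 ∈ B}.ncard := by
    intro B
    rw [← SetLike.coe_sort_coe, Nat.card_coe_set_eq, himgA, Set.ncard_image_of_injective _ hinj]
  have hcA' : ∀ B : AddSubgroup (AddMonoid.End (Space V p)),
      Nat.card ↥(limitSub β LA ⊓ B) = {a | a ∈ A' ∧ ρ a - 1 ∈ B}.ncard := by
    intro B
    rw [← SetLike.coe_sort_coe, Nat.card_coe_set_eq, himg, Set.ncard_image_of_injective _ hinj]
  have hcardA' : Nat.card A ≤ Nat.card A' := by
    have h1 := hcA ⊤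
    have h2 := hcA' ⊤
    rw [inf_top_eq] at h1 h2
    simp only [AddSubgroup.mem_top, and_true] at h1 h2
    have h3 : Nat.card A = {a | a ∈ A}.ncard := Nat.card_coe_set_eq _
    have h4 : Nat.card A' = {a | a ∈ A'}.ncard := Nat.card_coe_set_eq _
    rw [h3, h4, ← h1, ← h2]
    exact card_le_limitSub β hββ LA
  -- fixed vectors
  set Ch := (fixOf hGV A).map (hat (p := p) hVp) with hCh
  have hfix' : Nat.card (fixOf hGV A) ≤ Nat.card (fixOf hGV A') := by
    have hmul : ∀ x ∈ LA, ∀ y ∈ Ch, x * y = 0 := by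
      rintro _ ⟨a, ha, rfl⟩ _ ⟨v, hv, rfl⟩
      change (ρ a - 1) * hat hVp v = 0
      rw [hρ, sub_one_mul_hat, hv a ha, sub_self, map_zero]
    have hlimmul := limitSub_mul_eq_zero β hββ hmul
    have hr : limitSub β Ch ≤ (hat (p := p) hVp).range := by
      refine limitSub_le β (fun y hy => ?_) ?_ ?_
      · obtain ⟨v, -, rfl⟩ := hy
        exact ⟨v, rfl⟩
      · rintro _ ⟨v, -, rfl⟩
        exact ⟨conjV hGV b v - v, by rw [nMap, hβdef, hρ, hat_mul_sub_one, sub_zero,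
          sub_one_mul_hat]⟩
      · rintro _ ⟨v, -, rfl⟩
        exact ⟨0, by rw [map_zero, qMap, mul_assoc, hβdef, hρ, hat_mul_sub_one, mul_zero,
          neg_zero]⟩
    calc Nat.card (fixOf hGV A) = Nat.card Ch :=
          Nat.card_congr ((fixOf hGV A).equivMapOfInjective _ (hat_injective hVp)).toEquiv
      _ ≤ Nat.card (limitSub β Ch) := card_le_limitSub β hββ Ch
      _ ≤ Nat.card ((fixOf hGV A').map (hat (p := p) hVp)) := by
          refine Nat.card_mono (Set.toFinite _) ?_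
          intro y hy
          obtain ⟨v, rfl⟩ := hr hy
          refine ⟨v, fun g hg => ?_, rfl⟩
          have h := hlimmul _ hg _ hy
          rw [hρ, sub_one_mul_hat, ← map_zero (hat (p := p) hVp)] at h
          exact sub_eq_zero.1 (hat_injective hVp h)
      _ = Nat.card (fixOf hGV A') :=
          (Nat.card_congr ((fixOf hGV A').equivMapOfInjective _ (hat_injective hVp)).toEquiv).symm
  have hA'good : good A' := by
    refine ⟨fun h => ?_, hA'q, hAc.trans (Nat.mul_le_mul hcardA' hfix')⟩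
    rw [h, Subgroup.card_bot] at hcardA'
    exact hAne (A.eq_bot_of_card_le hcardA')
  have hle := hAmax A' hA'good
  have hstable : ∀ x ∈ LA, nMap β x ∈ LA := by
    have hLF : LA ≤ F 0 := by
      rintro _ ⟨a, -, rfl⟩
      exact hF0 a
    refine nMap_mem_of_card_le hp0 hodd β hββ LA F hFm (hFl b) (hFr b) n hFn hLF ?_
    intro k
    have hmono : ∀ k, Nat.card ↥(LA ⊓ F k) ≤ Nat.card ↥(limitSub β LA ⊓ F k) := by
      intro k
      refine (card_le_limitSub β hββ _).trans (Nat.card_mono (Set.toFinite _) ?_)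
      refine SetLike.coe_subset_coe.2 (le_inf (limitSub_mono β inf_le_left) ?_)
      exact (limitSub_mono β inf_le_right).trans (limitSub_le β le_rfl
        (fun x hx => hFm k (sub_mem (hFl b k x hx) (hFr b k x hx)))
        (fun x hx => neg_mem (hFm k (hFm (k + 1) (hFr b (k + 1) _ (hFl b k x hx))))))
    rcases lt_or_ge k n with hk | hk
    · by_contra hlt
      push_neg at hlt
      refine absurd hle (not_le.2 (Finset.sum_lt_sum (fun i _ => ?_)
        ⟨k, Finset.mem_range.2 hk, ?_⟩))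
      · rw [← hcA, ← hcA']; exact hmono i
      · rw [← hcA, ← hcA']; exact hlt
    · have hle : ∀ m, n ≤ m → F m ≤ ⊥ := by
        intro m hm
        induction m, hm using Nat.le_induction with
        | base => exact hFn.le
        | succ m _ ih => exact (hFm m).trans ih
      rw [le_bot_iff.1 (hle k hk), inf_bot_eq, inf_bot_eq]
  have hqst : ∀ x ∈ LA, qMap β x ∈ LA := fun x hx => mem_of_double hp0 hodd (by
    rw [qMap_double β x hββ]
    exact hstable _ (hstable x hx))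
  apply hbK
  apply Subgroup.subset_closure
  refine ⟨⟨h₀, a₀, ha₀, rfl⟩, ?_⟩
  have back : ∀ (c : G) (a : G), a ∈ A → ρ c * (ρ a - 1) * ρ c⁻¹ ∈ LA → c * a * c⁻¹ ∈ A := by
    intro c a _ h
    obtain ⟨a', ha', he⟩ := h
    have e : ρ (c * a * c⁻¹) - 1 = ρ c * (ρ a - 1) * ρ c⁻¹ := by
      rw [map_mul, map_mul, mul_sub, sub_mul, mul_one, hrm c c⁻¹, mul_inv_cancel, map_one]
    rwa [← hinj (he.trans e.symm)]
  refine Subgroup.mem_normalizer_iff.2 fun x => ⟨fun hx => back b x hx ?_, fun hx => ?_⟩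
  · have hm : ρ x - 1 ∈ LA := ⟨x, hx, rfl⟩
    rw [hρb, hρb', conj_plus]
    exact add_mem (add_mem hm (hstable _ hm)) (hqst _ hm)
  · have h := back b⁻¹ (b * x * b⁻¹) hx (by
      rw [inv_inv, hρb, hρb', conj_minus]
      have hm : ρ (b * x * b⁻¹) - 1 ∈ LA := ⟨_, hx, rfl⟩
      exact add_mem (sub_mem hm (hstable _ hm)) (hqst _ hm))
    simpa [mul_assoc] using h

end Cfsg.Agent.Lib.Offender69
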